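import Cfsg.Agent.Lib.RuBridge.Cover0

/-! # A part of the search for the vectors of norm 16 (generated) -/

set_option autoImplicit false
set_option maxRecDepth 100000

namespace Cfsg.Agent.Lib.RuBridge.Cn

open Cfsg.Agent.Lib.RuBridge

/-- A part of the states. -/
def chunk16 : List St := [
  (nat_lit 0x1b09b0432032db00041b6c06db0006186010000000275ac9f4, 8, []),
  (nat_lit 0x2d02c02d940209208061a4c80096402d0640201041024dcc25c, 8, []),
  (nat_lit 0x2496c92d96cb69328841b6d0252640410400201041033985671, 8, []),
  (nat_lit 0x8b41b00065b2036182036186db0006c02400000000f1446beb, 8, []),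
  (nat_lit 0x24200b24001b25264001b6c00d36016186010000000d81be9d3, 8, []),
  (nat_lit 0x806cb64248b65225020361860a60164024000000007972cefb, 8, []),
  (nat_lit 0x4924006db0924924904124902d264028820120104108385dd34, 8, [])]

set_option Elab.async false in
theorem chunk16_ok : Cfsg.Agent.Lib.PermComp.Core.allL stOK chunk16 = true := by decide +kernel

end Cfsg.Agent.Lib.RuBridge.Cn
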